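import Groth.Prelude.Def_RegImm
import Mathlib.RingTheory.Regular.Flat
import Mathlib.RingTheory.Localization.Algebra

/-!
Local generating regular sequences of a regular immersion, at stalks.
-/

set_option autoImplicit false
set_option linter.style.haveILetI false

noncomputable section

universe u

open CategoryTheory AlgebraicGeometry

namespace Groth.Agent.RegImm99

variable {Z X : Scheme.{u}}

theorem app_surjective (i : Z ⟶ X) {U : X.Opens} (hU : IsAffineOpen U) [IsClosedImmersion (i ∣_ U)] :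
    IsAffineOpen (i ⁻¹ᵁ U) ∧ Function.Surjective (i.app U).hom := by
  haveI : IsAffine U.toScheme := hU
  refine ⟨isAffine_of_isAffineHom (i ∣_ U), ?_⟩
  have h := (i ∣_ U).app_surjective (⊤ : U.toScheme.Opens) (isAffineOpen_top _)
  have e : U.topIso.hom ≫ i.app U = (i ∣_ U).appTop ≫ (i ⁻¹ᵁ U).topIso.hom := by
    rw [Scheme.Hom.appTop, morphismRestrict_app']
    simp only [Scheme.Opens.topIso, Scheme.Hom.app_eq_appLE, Functor.mapIso_hom,
      Iso.op_hom, eqToIso.hom]
    exact (Scheme.Hom.map_appLE (f := i) _ _).trans (Scheme.Hom.appLE_map (f := i) _ _).symm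
  intro b
  obtain ⟨c, hc⟩ := (ConcreteCategory.bijective_of_isIso (i ⁻¹ᵁ U).topIso.hom).2 b
  obtain ⟨a, ha⟩ := h c
  refine ⟨U.topIso.hom.hom a, ?_⟩
  have := congr($(e).hom a)
  refine this.trans ?_
  show (i ⁻¹ᵁ U).topIso.hom.hom ((i ∣_ U).appTop.hom a) = b
  rw [← hc]
  exact congrArg _ ha

theorem exists_isRegular (i : Z ⟶ X)
    (h : RegImm.IsRegularImmersion RegImm.Kind.regular i) (z : Z) :
    ∃ rs : List (X.presheaf.stalk (i z)),
      RingTheory.Sequence.IsRegular (X.presheaf.stalk (i z)) rs ∧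
        RingHom.ker (i.stalkMap z).hom = Ideal.ofList rs := by
  obtain ⟨⟨U, hU⟩, hz, hcl, rs, hreg, hker⟩ := h.2 z
  haveI := hcl
  obtain ⟨hV, hsurj⟩ := app_surjective i hU
  let φ := (i.app U).hom
  let p := (hU.primeIdealOf ⟨i z, hz⟩).asIdeal
  let q := (hV.primeIdealOf ⟨z, hz⟩).asIdeal
  letI : Algebra Γ(X, U) (X.presheaf.stalk (i z)) := X.presheaf.algebra_section_stalk ⟨i z, hz⟩
  haveI : IsLocalization.AtPrime (X.presheaf.stalk (i z)) p := hU.isLocalization_stalk ⟨i z, hz⟩
  letI : Algebra Γ(Z, i ⁻¹ᵁ U) (Z.presheaf.stalk z) := Z.presheaf.algebra_section_stalk ⟨z, hz⟩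
  haveI : IsLocalization.AtPrime (Z.presheaf.stalk z) q := hV.isLocalization_stalk ⟨z, hz⟩
  have hpq : q.comap φ = p := by
    have := congr($(IsAffineOpen.comap_primeIdealOf_appLE U hU (i ⁻¹ᵁ U) hV le_rfl (x := z) hz).asIdeal)
    rw [← Scheme.Hom.app_eq_appLE] at this
    exact this
  have hT : Submonoid.map φ p.primeCompl = q.primeCompl := by
    ext b
    constructor
    · rintro ⟨a, ha, rfl⟩ hb
      exact ha (hpq ▸ hb)
    · intro hb
      obtain ⟨a, rfl⟩ := hsurj b
      exact ⟨a, fun ha => hb (show a ∈ q.comap φ from hpq.symm ▸ ha), rfl⟩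
  have hmap : (i.stalkMap z).hom = IsLocalization.map (Z.presheaf.stalk z) φ
      (hT.symm ▸ p.primeCompl.le_comap_map) := by
    refine IsLocalization.ringHom_ext p.primeCompl ?_
    rw [IsLocalization.map_comp]
    ext a
    exact i.germ_stalkMap_apply U z hz a
  have hk := IsLocalization.ker_map (Z.presheaf.stalk z) (g := φ) (S := X.presheaf.stalk (i z)) hT
  have hker' : RingHom.ker φ = Ideal.ofList rs := hker
  refine ⟨rs.map (algebraMap Γ(X, U) (X.presheaf.stalk (i z))), ?_, ?_⟩
  · refine hreg.toIsWeaklyRegular.isRegular_of_isLocalization_of_mem _ p fun r hr => ?_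
    have : r ∈ RingHom.ker φ := hker'.symm ▸ Ideal.subset_span hr
    rw [← hpq, Ideal.mem_comap, RingHom.mem_ker.mp this]
    exact q.zero_mem
  · rw [hmap, hk, hker', Ideal.map_ofList]

end Groth.Agent.RegImm99
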